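import Groth.Agent.DRing.Homology
import Groth.Agent.DRing.Trunc
import Mathlib.Algebra.Homology.DerivedCategory.Basic
import Mathlib.RingTheory.Filtration
import Mathlib.Data.Int.Interval
import Mathlib.RingTheory.Flat.Basic
import Mathlib.LinearAlgebra.TensorProduct.RightExactness

/-!
# Ghost maps between `J`-adic pieces of a bounded complex of projectives
-/

set_option autoImplicit false
set_option maxHeartbeats 1000000

universe w u

open CategoryTheory CategoryTheory.Limits MonoidalCategory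
open scoped TensorProduct

noncomputable section

namespace Groth.Agent.JAdicGhost

open DRing.Homology

variable {A : Type u} [CommRing A] [HasDerivedCategory.{w} (ModuleCat.{u} A)]

/-- A map out of a complex of projectives vanishing above `i`, followed by a map sending cocycles of
degree `i` to coboundaries, agrees in the derived category with a map vanishing above `i - 1`. -/
theorem exists_step {P Y Y' : CochainComplex (ModuleCat.{u} A) ℤ} (hP : ∀ j, Module.Projective A (P.X j))
    (g : P ⟶ Y) (f : Y ⟶ Y') (i : ℤ) (hg : ∀ j, i < j → g.f j = 0)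
    (hf : ∀ z : Y.X i, IsCyc Y i z → ∃ w : Y'.X (i - 1), (Y'.d (i - 1) i).hom w = (f.f i).hom z) :
    ∃ g' : P ⟶ Y', DerivedCategory.Q.map g' = DerivedCategory.Q.map (g ≫ f) ∧
      ∀ j, i - 1 < j → g'.f j = 0 := by
  have := hP i
  have hcyc : ∀ x, IsCyc Y i ((g.f i).hom x) := fun x => by
    show (Y.d i (i + 1)).hom ((g.f i).hom x) = 0
    rw [hom_d, hg (i + 1) (by omega)]
    rfl
  let φ : P.X i →ₗ[A] Y'.X i := (g.f i ≫ f.f i).hom
  have hφ : ∀ x, φ x ∈ LinearMap.range (Y'.d (i - 1) i).hom := fun x => by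
    obtain ⟨w, hw⟩ := hf _ (hcyc x)
    exact ⟨w, hw⟩
  obtain ⟨s₀, hs₀⟩ := Module.projective_lifting_property (Y'.d (i - 1) i).hom.rangeRestrict
    (φ.codRestrict _ hφ) (LinearMap.surjective_rangeRestrict _)
  have hs : ∀ x, (Y'.d (i - 1) i).hom (s₀ x) = φ x := fun x =>
    congrArg Subtype.val (LinearMap.congr_fun hs₀ x)
  let s : ∀ a b : ℤ, (ComplexShape.up ℤ).Rel b a → (P.X a ⟶ Y'.X b) := fun a b r =>
    if h : a = i then
      eqToHom (congrArg P.X h) ≫ ModuleCat.ofHom s₀ ≫
        eqToHom (congrArg Y'.X (show i - 1 = b by have : b + 1 = a := r; omega))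
    else 0
  let ν := Homotopy.nullHomotopicMap' s
  refine ⟨g ≫ f - ν, ?_, fun j hj => ?_⟩
  · refine (DerivedCategory.Q_map_eq_of_homotopy _ ((Homotopy.equivSubZero.symm ?_) : Homotopy (g ≫ f) (g ≫ f - ν))).symm
    refine (Homotopy.ofEq ?_).trans (Homotopy.nullHomotopy' s)
    simp [ν]
  · have r₁ : (ComplexShape.up ℤ).Rel (j - 1) j := show j - 1 + 1 = j by omega
    have r₂ : (ComplexShape.up ℤ).Rel j (j + 1) := rfl
    rw [HomologicalComplex.sub_f_apply, Homotopy.nullHomotopicMap'_f r₁ r₂, HomologicalComplex.comp_f]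
    have h2 : s (j + 1) j r₂ = 0 := dif_neg (by omega)
    rw [h2, comp_zero, zero_add, sub_eq_zero]
    by_cases hji : j = i
    · subst hji
      refine ModuleCat.hom_ext (LinearMap.ext fun x => ?_)
      have h1 : s j (j - 1) r₁ = ModuleCat.ofHom s₀ := by
        simp [s]
      rw [h1]
      exact (hs x).symm
    · rw [show s j (j - 1) r₁ = 0 from dif_neg hji, zero_comp, hg j (by omega), zero_comp]

variable (J : Ideal A) (K : CochainComplex (ModuleCat.{u} A) ℤ)

/-- `J ^ m ⊗ K`. -/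
abbrev piece (I : Ideal A) : CochainComplex (ModuleCat.{u} A) ℤ :=
  (((curriedTensor (ModuleCat.{u} A)).obj (ModuleCat.of A I)).mapHomologicalComplex (ComplexShape.up ℤ)).obj K

/-- The inclusion. -/
abbrev inc {I I' : Ideal A} (h : I ≤ I') : piece K I ⟶ piece K I' :=
  (NatTrans.mapHomologicalComplex
    ((curriedTensor (ModuleCat.{u} A)).map (ModuleCat.ofHom (Submodule.inclusion (p := I) (p' := I') h)))
    (ComplexShape.up ℤ)).app K

omit [HasDerivedCategory.{w} (ModuleCat.{u} A)] in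
theorem inc_comp {I I' I'' : Ideal A} (h : I ≤ I') (h' : I' ≤ I'') :
    inc K h ≫ inc K h' = inc K (h.trans h') := by
  ext q : 1
  refine ModuleCat.hom_ext (TensorProduct.ext' fun x y => ?_)
  rfl

/-- The map `I ⊗ M → M`. -/
def toTot (I : Ideal A) (q : ℤ) : (↥I ⊗[A] ↑(K.X q)) →ₗ[A] K.X q :=
  TensorProduct.lift ((LinearMap.lsmul A (K.X q)).comp I.subtype)

omit [HasDerivedCategory.{w} (ModuleCat.{u} A)] in
theorem toTot_tmul (I : Ideal A) (q : ℤ) (x : I) (y : K.X q) :
    toTot K I q (x ⊗ₜ y) = (x : A) • y := rfl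

omit [HasDerivedCategory.{w} (ModuleCat.{u} A)] in
theorem toTot_injective (I : Ideal A) (q : ℤ) [Module.Projective A (K.X q)] :
    Function.Injective (toTot K I q) := by
  have h : toTot K I q = (TensorProduct.lid A (K.X q)).toLinearMap.comp (LinearMap.rTensor (K.X q) I.subtype) := by
    refine TensorProduct.ext' fun x y => ?_
    rw [toTot_tmul]
    rfl
  rw [h]
  exact (TensorProduct.lid A (K.X q)).injective.comp
    (Module.Flat.rTensor_preserves_injective_linearMap _ Subtype.val_injective)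

omit [HasDerivedCategory.{w} (ModuleCat.{u} A)] in
theorem range_toTot (I : Ideal A) (q : ℤ) :
    LinearMap.range (toTot K I q) = I • (⊤ : Submodule A (K.X q)) := by
  refine le_antisymm ?_ (Submodule.smul_le.2 fun a ha y _ => ⟨(⟨a, ha⟩ : I) ⊗ₜ y, rfl⟩)
  rintro _ ⟨t, rfl⟩
  induction t using TensorProduct.induction_on with
  | zero => rw [map_zero]; exact Submodule.zero_mem _
  | tmul x y => exact Submodule.smul_mem_smul x.2 Submodule.mem_top
  | add x y hx hy => rw [map_add]; exact Submodule.add_mem _ hx hy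

omit [HasDerivedCategory.{w} (ModuleCat.{u} A)] in
theorem toTot_d (I : Ideal A) (q q' : ℤ) (t : (piece K I).X q) :
    toTot K I q' (((piece K I).d q q').hom t) = (K.d q q').hom (toTot K I q t) := by
  revert t
  intro (t : ↥I ⊗[A] ↑(K.X q))
  have h : (toTot K I q').comp (show (↥I ⊗[A] ↑(K.X q)) →ₗ[A] (↥I ⊗[A] ↑(K.X q')) from ((piece K I).d q q').hom) = (K.d q q').hom.comp (toTot K I q) :=
    TensorProduct.ext' fun x y => ((K.d q q').hom.map_smul _ _).symm
  exact LinearMap.congr_fun h t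

omit [HasDerivedCategory.{w} (ModuleCat.{u} A)] in
theorem toTot_inc {I I' : Ideal A} (h : I ≤ I') (q : ℤ) (t : (piece K I).X q) :
    toTot K I' q (((inc K h).f q).hom t) = toTot K I q t := by
  have h' : (toTot K I' q).comp (show (↥I ⊗[A] ↑(K.X q)) →ₗ[A] (↥I' ⊗[A] ↑(K.X q)) from ((inc K h).f q).hom) = toTot K I q :=
    TensorProduct.ext' fun x y => rfl
  exact LinearMap.congr_fun h' t

variable [IsNoetherianRing A] [∀ q, Module.Finite A (K.X q)] [∀ q, Module.Projective A (K.X q)]

omit [HasDerivedCategory.{w} (ModuleCat.{u} A)] in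
/-- The Artin–Rees input: deep cocycles are shallow coboundaries. -/
theorem exists_shift (hJ : ∀ q : ℤ, ∀ x ∈ J, ∀ c : ↑(K.homology q), x • c = 0) (a b : ℤ) :
    ∃ c : ℕ, ∀ (q : ℤ), a ≤ q → q ≤ b → ∀ (m e : ℕ) (he : J ^ e ≤ J ^ m), m + c ≤ e →
      ∀ z : (piece K (J ^ e)).X q, IsCyc (piece K (J ^ e)) q z →
        ∃ w : (piece K (J ^ m)).X (q - 1), ((piece K (J ^ m)).d (q - 1) q).hom w = ((inc K he).f q).hom z := by
  choose k hk using fun q : ℤ =>
    J.exists_pow_inf_eq_pow_smul (LinearMap.ker (K.d q (q + 1)).hom)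
  refine ⟨(Finset.Icc a b).sup k + 1, fun q ha hb m e he hm z hz => ?_⟩
  have hkq : k q ≤ (Finset.Icc a b).sup k := Finset.le_sup (Finset.mem_Icc.2 ⟨ha, hb⟩)
  let y := toTot K (J ^ e) q z
  have hy : y ∈ J ^ e • (⊤ : Submodule A (K.X q)) ⊓ LinearMap.ker (K.d q (q + 1)).hom := by
    refine ⟨range_toTot K (J ^ e) q ▸ ⟨z, rfl⟩, LinearMap.mem_ker.2 ?_⟩
    exact (toTot_d K (J ^ e) q (q + 1) z).symm.trans ((congrArg _ hz).trans (map_zero _))
  rw [hk q e (by omega)] at hy
  have hle : J ^ (e - k q) • (J ^ k q • (⊤ : Submodule A (K.X q)) ⊓ LinearMap.ker (K.d q (q + 1)).hom) ≤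
      J ^ m • LinearMap.range (K.d (q - 1) q).hom := by
    calc _ ≤ J ^ (m + 1) • LinearMap.ker (K.d q (q + 1)).hom :=
          Submodule.smul_mono (Ideal.pow_le_pow_right (by omega)) inf_le_right
      _ = J ^ m • (J • LinearMap.ker (K.d q (q + 1)).hom) := by rw [pow_succ, Submodule.mul_smul]
      _ ≤ _ := Submodule.smul_mono le_rfl (Submodule.smul_le.2 fun x hx v hv => by
          have hv' : IsCyc K q v := hv
          obtain ⟨w, hw⟩ := (cls_eq_zero_iff (q - 1) (by omega) (hv'.smul x)).1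
            ((cls_smul hv' x).trans (hJ q x hx _))
          exact ⟨w, hw⟩)
  have hy' : y ∈ Submodule.map (K.d (q - 1) q).hom (J ^ m • ⊤) := by
    rw [Submodule.map_smul'', Submodule.map_top]
    exact hle hy
  obtain ⟨u, hu, hud⟩ := hy'
  rw [← range_toTot] at hu
  obtain ⟨w, rfl⟩ := hu
  refine ⟨w, toTot_injective K (J ^ m) q ?_⟩
  rw [toTot_d, toTot_inc]
  exact hud

/-- Deep enough inclusions vanish in the derived category. -/
theorem exists_Q_map_inc_eq_zero (a b : ℤ) (hK : ∀ q : ℤ, q < a ∨ b < q → IsZero (K.X q))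
    (hJ : ∀ q : ℤ, ∀ x ∈ J, ∀ c : ↑(K.homology q), x • c = 0) :
    ∃ n : ℕ, ∀ m : ℕ, ∀ h : J ^ (n + m) ≤ J ^ m, DerivedCategory.Q.map (inc K h) = 0 := by
  obtain ⟨c, hc⟩ := exists_shift J K hJ a b
  let N := (b - a + 1).toNat
  refine ⟨N * c, fun m h => ?_⟩
  let X₀ := piece K (J ^ (N * c + m))
  have hzero : ∀ (I : Ideal A) q, (q < a ∨ b < q) → IsZero ((piece K I).X q) := fun I q hq =>
    Functor.map_isZero ((curriedTensor (ModuleCat.{u} A)).obj (ModuleCat.of A I)) (hK q hq)
  obtain ⟨P, π, hPb, hP, hπ⟩ := DRing.Trunc.exists_projRes X₀ b fun i hi =>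
    ShortComplex.exact_of_isZero_X₂ _ (hzero _ i (Or.inr hi))
  have key : ∀ k ≤ N, ∀ he : J ^ (N * c + m) ≤ J ^ ((N - k) * c + m),
      ∃ g : P ⟶ piece K (J ^ ((N - k) * c + m)),
        DerivedCategory.Q.map g = DerivedCategory.Q.map (π ≫ inc K he) ∧ ∀ j, b - k < j → g.f j = 0 := by
    intro k
    induction k with
    | zero => exact fun _ he => ⟨π ≫ inc K he, rfl, fun j hj => (hzero _ j (Or.inr (by simpa using hj))).eq_of_tgt _ _⟩
    | succ k ih =>
      intro hk he
      have h₁ : J ^ (N * c + m) ≤ J ^ ((N - k) * c + m) :=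
        Ideal.pow_le_pow_right (by gcongr; omega)
      have h₂ : J ^ ((N - k) * c + m) ≤ J ^ ((N - (k + 1)) * c + m) :=
        Ideal.pow_le_pow_right (by gcongr; omega)
      obtain ⟨g, hg, hg'⟩ := ih (by omega) h₁
      have hcyc : ∀ z, IsCyc (piece K (J ^ ((N - k) * c + m))) (b - k) z →
          ∃ w, ((piece K (J ^ ((N - (k + 1)) * c + m))).d (b - k - 1) (b - k)).hom w =
            ((inc K h₂).f (b - k)).hom z := by
        intro z hz
        refine hc (b - k) (by omega) (by omega) _ _ h₂ (le_of_eq ?_) z hz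
        rw [show N - k = (N - (k + 1)) + 1 by omega, Nat.add_mul, Nat.one_mul]
        omega
      obtain ⟨g', hg₁, hg₂⟩ := exists_step hP g (inc K h₂) (b - k) hg' hcyc
      refine ⟨g', hg₁.trans ?_, fun j hj => hg₂ j (by push_cast at hj; omega)⟩
      rw [Functor.map_comp, hg, ← Functor.map_comp, Category.assoc, inc_comp]
  have h' : J ^ (N * c + m) ≤ J ^ ((N - N) * c + m) := Ideal.pow_le_pow_right (by simp)
  obtain ⟨g, hg, hg'⟩ := key N le_rfl h'
  have hg0 : g = 0 := by
    ext j : 1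
    by_cases hj : b - N < j
    · exact hg' j hj
    · exact (hzero _ j (Or.inl (by omega))).eq_of_tgt _ _
  have : IsIso (DerivedCategory.Q.map π) := inferInstance
  have h0 : DerivedCategory.Q.map (inc K h') = 0 := by
    rw [← cancel_epi (DerivedCategory.Q.map π), ← Functor.map_comp, ← hg, hg0, comp_zero]
    exact DerivedCategory.Q.map_zero _ _
  have hm : J ^ ((N - N) * c + m) ≤ J ^ m := le_of_eq (by simp)
  rw [← inc_comp K h' hm, Functor.map_comp, h0, zero_comp]

end Groth.Agent.JAdicGhost
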